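import Groth.Agent.Segre.CM
import Mathlib.Algebra.Category.ModuleCat.Ext.DimensionShifting
import Mathlib.Algebra.Category.ModuleCat.EnoughInjectives
import Mathlib.Algebra.Category.ModuleCat.ProjectiveDimension
import Mathlib.Algebra.Homology.DerivedCategory.Ext.Linear
import Mathlib.Algebra.Homology.DerivedCategory.Ext.ExactSequences
import Mathlib.RingTheory.Regular.ProjectiveDimension
import Mathlib.RingTheory.Ideal.KrullsHeightTheorem
import Mathlib.RingTheory.KrullDimension.NonZeroDivisors

/-! Systems of parameters in Cohen-Macaulay local rings are regular sequences. -/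

set_option autoImplicit false
universe u

open CategoryTheory Abelian RingTheory.Sequence IsLocalRing
open scoped Pointwise

namespace Groth.Agent.CMLocal.SOP

noncomputable section

variable {R : Type u} [CommRing R] [IsLocalRing R]

/-- depth at least `d`, through Ext from the residue field -/
def DepthGE (M : ModuleCat.{u} R) (d : ℕ) : Prop :=
  ∀ i < d, Subsingleton (Ext (ModuleCat.of R (R ⧸ maximalIdeal R)) M i)

lemma smul_id_residue {x : R} (hx : x ∈ maximalIdeal R) : x • 𝟙 (ModuleCat.of R (R ⧸ maximalIdeal R)) = 0 := by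
  refine ModuleCat.hom_ext (LinearMap.ext fun z => ?_)
  obtain ⟨w, rfl⟩ := Ideal.Quotient.mk_surjective z
  change x • (Ideal.Quotient.mk (maximalIdeal R) w) = 0
  rw [Algebra.smul_def, Ideal.Quotient.algebraMap_eq, ← map_mul, Ideal.Quotient.eq_zero_iff_mem]
  exact Ideal.mul_mem_right _ _ hx

lemma comp_smul_eq_zero {M : ModuleCat.{u} R} {x : R} (hx : x ∈ maximalIdeal R) {i : ℕ}
    (α : Ext (ModuleCat.of R (R ⧸ maximalIdeal R)) M i) : α.comp (Ext.mk₀ (x • 𝟙 M)) (add_zero i) = 0 := by
  have h1 : α.comp (Ext.mk₀ (x • 𝟙 M)) (add_zero i) = x • α := by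
    rw [Ext.mk₀_smul, Ext.comp_smul, Ext.comp_mk₀_id]
  have h2 : (Ext.mk₀ (x • 𝟙 (ModuleCat.of R (R ⧸ maximalIdeal R)))).comp α (zero_add i) = x • α := by
    rw [Ext.mk₀_smul, Ext.smul_comp, Ext.mk₀_id_comp]
  rw [h1, ← h2, smul_id_residue hx, Ext.mk₀_zero, Ext.zero_comp]

lemma depthGE_quot {M : ModuleCat.{u} R} {x : R} (hx : x ∈ maximalIdeal R) (hreg : IsSMulRegular M x) {d : ℕ}
    (h : DepthGE M (d + 1)) : DepthGE (ModuleCat.of R (QuotSMulTop x M)) d := by
  intro i hi
  have hS : (M.smulShortComplex x).ShortExact := hreg.smulShortComplex_shortExact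
  refine subsingleton_of_forall_eq 0 fun β => ?_
  obtain ⟨α, hα⟩ := Ext.covariant_sequence_exact₃ (ModuleCat.of R (R ⧸ maximalIdeal R)) hS β rfl
    (@Subsingleton.elim _ (h (i + 1) (by omega)) _ _)
  rw [← hα, show α = 0 from @Subsingleton.elim _ (h i (by omega)) α 0]
  apply Ext.zero_comp

lemma depthGE_of_quot {M : ModuleCat.{u} R} {x : R} (hx : x ∈ maximalIdeal R) (hreg : IsSMulRegular M x) {d : ℕ}
    (h : DepthGE (ModuleCat.of R (QuotSMulTop x M)) d) : DepthGE M (d + 1) := by
  intro i hi
  refine subsingleton_of_forall_eq 0 fun α => ?_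
  cases i with
  | zero =>
    obtain ⟨f, rfl⟩ := (Ext.mk₀_bijective _ _).2 α
    have hf : f = 0 := by
      refine ModuleCat.hom_ext (LinearMap.ext fun z => hreg ?_)
      change x • f.hom z = x • (0 : M)
      rw [smul_zero, ← map_smul]
      have := LinearMap.congr_fun (congrArg ModuleCat.Hom.hom (smul_id_residue hx)) z
      change x • z = 0 at this
      rw [this, map_zero]
    rw [hf, Ext.mk₀_zero]
  | succ i =>
    have hS : (M.smulShortComplex x).ShortExact := hreg.smulShortComplex_shortExact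
    obtain ⟨γ, hγ⟩ := Ext.covariant_sequence_exact₁ (ModuleCat.of R (R ⧸ maximalIdeal R)) hS α
      (comp_smul_eq_zero hx α) rfl
    rw [← hγ, show γ = 0 from @Subsingleton.elim _ (h i (by omega)) γ 0]
    apply Ext.zero_comp

lemma depthGE_congr {M N : ModuleCat.{u} R} (e : M ≅ N) {d : ℕ} (h : DepthGE M d) : DepthGE N d := by
  intro i hi
  refine subsingleton_of_forall_eq 0 fun α => ?_
  have h0 : (α.comp (Ext.mk₀ e.inv) (add_zero i)).comp (Ext.mk₀ e.hom) (add_zero i) = α := by simp
  rw [← h0, @Subsingleton.elim _ (h i hi) (α.comp (Ext.mk₀ e.inv) (add_zero i)) 0, Ext.zero_comp]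

lemma depthGE_of_list : ∀ (rs : List R) (M : ModuleCat.{u} R), IsWeaklyRegular M rs →
    (∀ r ∈ rs, r ∈ maximalIdeal R) → DepthGE M rs.length
  | [], _, _, _ => fun i hi => absurd hi (Nat.not_lt_zero i)
  | x :: rs, M, hreg, hmem => by
    rw [isWeaklyRegular_cons_iff] at hreg
    simp only [List.mem_cons, forall_eq_or_imp] at hmem
    exact depthGE_of_quot hmem.1 hreg.1 (depthGE_of_list rs (ModuleCat.of R (QuotSMulTop x M)) hreg.2 hmem.2)

variable [IsNoetherianRing R]

lemma exists_regular {M : ModuleCat.{u} R} [Module.Finite R M] (h : DepthGE M 1) :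
    ∃ x ∈ maximalIdeal R, IsSMulRegular M x := by
  classical
  by_contra hex
  have hsub : (maximalIdeal R : Set R) ⊆ ⋃ p ∈ associatedPrimes R M, (p : Set R) := fun x hx => by
    rw [biUnion_associatedPrimes_eq_zero_divisors R M]
    by_contra hno
    refine hex ⟨x, hx, fun a b hab => ?_⟩
    by_contra hne
    exact hno ⟨a - b, sub_ne_zero.2 hne, by rw [smul_sub]; exact sub_eq_zero.2 hab⟩
  have hfin := associatedPrimes.finite R M
  rw [← hfin.coe_toFinset] at hsub
  obtain ⟨p, hp, hle⟩ := (Ideal.subset_union_prime (f := fun p : Ideal R => p) ⊥ ⊥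
    (fun i hi _ _ => (hfin.mem_toFinset.1 hi).isPrime)).1 hsub
  have hp' := hfin.mem_toFinset.1 hp
  have heq : maximalIdeal R = p := (maximalIdeal.isMaximal R).eq_of_le hp'.isPrime.ne_top hle
  obtain ⟨-, z, hz⟩ := isAssociatedPrime_iff.1 hp'
  have hzz : ∀ r, r ∈ maximalIdeal R ↔ r • z = 0 := fun r => by
    rw [heq, hz, Submodule.mem_colon_singleton, Submodule.mem_bot]
  have hz0 : z ≠ 0 := fun h0 => (maximalIdeal.isMaximal R).ne_top
    ((Ideal.eq_top_iff_one _).2 ((hzz 1).2 (by rw [h0, smul_zero])))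
  let f : ModuleCat.of R (R ⧸ maximalIdeal R) ⟶ M := ModuleCat.ofHom
    (Submodule.liftQ (maximalIdeal R) (LinearMap.toSpanSingleton R M z) fun r hr => (hzz r).1 hr)
  have hf : Ext.mk₀ f = Ext.mk₀ (0 : ModuleCat.of R (R ⧸ maximalIdeal R) ⟶ M) :=
    @Subsingleton.elim _ (h 0 (by omega)) _ _
  have := LinearMap.congr_fun (congrArg ModuleCat.Hom.hom ((Ext.mk₀_bijective _ _).1 hf)) (Submodule.Quotient.mk 1)
  apply hz0
  change (1 : R) • z = 0 at this
  simpa using this

/-- depth is at most the coheight of any associated prime -/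
theorem le_coheight : ∀ (d : ℕ) (M : Type u) [AddCommGroup M] [Module R M] [Module.Finite R M],
    DepthGE (ModuleCat.of R M) d → ∀ q : PrimeSpectrum R, q.asIdeal ∈ associatedPrimes R M →
      (d : ℕ∞) ≤ Order.coheight q
  | 0 => fun _ _ _ _ _ _ _ => by simp
  | d + 1 => fun M _ _ _ h q hq => by
    obtain ⟨x, hx, hreg⟩ := exists_regular (M := ModuleCat.of R M) (fun i hi => h i (by omega))
    have hQ : DepthGE (ModuleCat.of R (QuotSMulTop x M)) d := depthGE_quot hx hreg h
    obtain ⟨-, z, hz⟩ := isAssociatedPrime_iff.1 hq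
    have hzq : ∀ r ∈ q.asIdeal, r • z = 0 := fun r hr => by
      rw [hz, Submodule.mem_colon_singleton, Submodule.mem_bot] at hr
      exact hr
    let N : Submodule R M :=
      { carrier := {m | ∀ r ∈ q.asIdeal, r • m = 0}
        add_mem' := fun {a b} ha hb r hr => by rw [smul_add, ha r hr, hb r hr, add_zero]
        zero_mem' := fun r _ => smul_zero r
        smul_mem' := fun c m hm r hr => by rw [smul_comm, hm r hr, smul_zero] }
    let g : QuotSMulTop x N →ₗ[R] QuotSMulTop x M := QuotSMulTop.map x N.subtype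
    have hginj : Function.Injective g := by
      rw [← LinearMap.ker_eq_bot, Submodule.eq_bot_iff]
      intro v hv
      obtain ⟨w, rfl⟩ := Submodule.Quotient.mk_surjective _ v
      have hw : (w : M) ∈ x • (⊤ : Submodule R M) := (Submodule.Quotient.mk_eq_zero _).1 hv
      obtain ⟨m, -, hm⟩ := (Submodule.mem_smul_pointwise_iff_exists _ _ _).1 hw
      have hmN : m ∈ N := fun r hr => hreg (by
        change x • r • m = x • (0 : M)
        rw [smul_comm, hm, smul_zero]
        exact w.2 r hr)
      exact (Submodule.Quotient.mk_eq_zero _).2 ((Submodule.mem_smul_pointwise_iff_exists _ _ _).2 ⟨⟨m, hmN⟩, trivial, Subtype.ext hm⟩)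
    haveI : Nontrivial N := by
      refine ⟨⟨⟨z, hzq⟩, 0, fun h0 => hq.isPrime.ne_top ((Ideal.eq_top_iff_one _).2 ?_)⟩⟩
      rw [hz, Submodule.mem_colon_singleton, Submodule.mem_bot, one_smul]
      exact congrArg Subtype.val h0
    haveI : Module.Finite R N := Module.Finite.iff_fg.2 (IsNoetherian.noetherian N)
    haveI : Nontrivial (QuotSMulTop x N) := nontrivial_quotSMulTop_of_mem_maximalIdeal _ hx
    obtain ⟨v, hv⟩ := exists_ne (0 : QuotSMulTop x N)
    obtain ⟨p, hp, hle⟩ := exists_le_isAssociatedPrime_of_isNoetherianRing R v hv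
    have hqp : q.asIdeal ≤ p ∧ x ∈ p := by
      obtain ⟨w, rfl⟩ := Submodule.Quotient.mk_surjective _ v
      refine ⟨fun r hr => hle ?_, hle ?_⟩
      · rw [Submodule.mem_colon_singleton, Submodule.mem_bot, ← Submodule.Quotient.mk_smul]
        rw [show r • w = 0 from Subtype.ext (w.2 r hr), Submodule.Quotient.mk_zero]
      · rw [Submodule.mem_colon_singleton, Submodule.mem_bot, ← Submodule.Quotient.mk_smul, Submodule.Quotient.mk_eq_zero]
        exact Submodule.smul_mem_pointwise_smul _ _ _ trivial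
    have hxq : x ∉ q.asIdeal := fun hxq => by
      have h0 : z = 0 := hreg (show x • z = x • (0 : M) by rw [hzq x hxq, smul_zero])
      exact hq.isPrime.ne_top ((Ideal.eq_top_iff_one _).2 (by
        rw [hz, Submodule.mem_colon_singleton, Submodule.mem_bot, h0, smul_zero]))
    have ih := le_coheight d (QuotSMulTop x M) hQ ⟨p, hp.isPrime⟩ (hp.map_of_injective _ hginj)
    have hlt : q < (⟨p, hp.isPrime⟩ : PrimeSpectrum R) :=
      (PrimeSpectrum.asIdeal_lt_asIdeal q ⟨p, hp.isPrime⟩).1
        (lt_of_le_of_ne hqp.1 fun e => hxq (e ▸ hqp.2))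
    calc ((d + 1 : ℕ) : ℕ∞) = (d : ℕ∞) + 1 := by push_cast; rfl
      _ ≤ Order.coheight (⟨p, hp.isPrime⟩ : PrimeSpectrum R) + 1 := by gcongr
      _ ≤ Order.coheight q := Order.coheight_add_one_le hlt

/-- a prime which together with `m` elements is primary to the maximal ideal has coheight at most `m` -/
lemma coheight_le_card (q : PrimeSpectrum R) (s : Finset R)
    (h : maximalIdeal R ≤ (q.asIdeal ⊔ Ideal.span (s : Set R)).radical) (hs : ∀ x ∈ s, x ∈ maximalIdeal R) :
    Order.coheight q ≤ s.card := by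
  classical
  haveI := q.isPrime
  have h1 : ((Order.coheight q : ℕ∞) : WithBot ℕ∞) ≤ ringKrullDim (R ⧸ q.asIdeal) := by
    rw [ringKrullDim_quotient, Order.coheight_eq_krullDim_Ici]
    exact Order.krullDim_le_of_strictMono (fun a => ⟨a.1, (PrimeSpectrum.asIdeal_le_asIdeal q a.1).2 a.2⟩) fun a b hab => hab
  haveI : IsLocalRing (R ⧸ q.asIdeal) := IsLocalRing.of_surjective' (Ideal.Quotient.mk _) Ideal.Quotient.mk_surjective
  haveI : IsLocalHom (Ideal.Quotient.mk q.asIdeal) := IsLocalHom.of_surjective _ Ideal.Quotient.mk_surjective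
  have h2 : ringKrullDim (R ⧸ q.asIdeal) ≤ (s.card : WithBot ℕ∞) := by
    rw [← IsLocalRing.maximalIdeal_height_eq_ringKrullDim]
    have hmin : maximalIdeal (R ⧸ q.asIdeal) ∈
        (Ideal.span ((Ideal.Quotient.mk q.asIdeal) '' (s : Set R))).minimalPrimes := by
      have hle : Ideal.span ((Ideal.Quotient.mk q.asIdeal) '' (s : Set R)) ≤ maximalIdeal (R ⧸ q.asIdeal) := by
        rw [Ideal.span_le]
        rintro _ ⟨x, hx, rfl⟩
        exact map_nonunit _ x (hs x hx)
      refine ⟨⟨inferInstance, hle⟩, fun P hP hPle y hy => ?_⟩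
      obtain ⟨r, rfl⟩ := Ideal.Quotient.mk_surjective y
      haveI := hP.1
      have hr : r ∈ maximalIdeal R := by
        by_contra hru
        have hu : IsUnit r := by simpa using hru
        exact (maximalIdeal.isMaximal _).ne_top (Ideal.eq_top_of_isUnit_mem _ hy (hu.map _))
      have hcomap : (q.asIdeal ⊔ Ideal.span (s : Set R)).radical ≤ P.comap (Ideal.Quotient.mk q.asIdeal) := by
        refine (hP.1.comap _).radical_le_iff.2 (sup_le ?_ ?_)
        · intro t ht
          rw [Ideal.mem_comap, Ideal.Quotient.eq_zero_iff_mem.2 ht]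
          exact P.zero_mem
        · rw [Ideal.span_le]
          intro t ht
          exact hP.2 (Ideal.subset_span ⟨t, ht, rfl⟩)
      exact hcomap (h hr)
    have := Ideal.height_le_card_of_mem_minimalPrimes_span (s.finite_toSet.image _) hmin
    refine WithBot.coe_le_coe.2 (this.trans ?_)
    exact Nat.cast_le.2 ((Set.ncard_image_le s.finite_toSet).trans (by simp))
  exact WithBot.coe_le_coe.1 (h1.trans h2)

/-- in a Cohen-Macaulay local ring every system of parameters is a regular sequence -/
theorem sop_isWeaklyRegular [LocCoh.IsCohenMacaulayLocalRing R] (n : ℕ) (hdim : ringKrullDim R = n) :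
    ∀ (L : List R), L.length = n → (∀ x ∈ L, x ∈ maximalIdeal R) → maximalIdeal R ≤ (Ideal.ofList L).radical →
      IsWeaklyRegular R L := by
  classical
  intro L hlen hmem hrad
  have hdepth : DepthGE (ModuleCat.of R R) n := by
    cases n with
    | zero => exact fun i hi => absurd hi (Nat.not_lt_zero i)
    | succ m =>
      obtain ⟨rs, hrs, hreg, hrm⟩ := Segre.CM.exists_regular_of_cm (L := R) (n := m) (by rw [hdim])
      exact fun i hi => depthGE_of_list rs (ModuleCat.of R R) hreg hrm i (by omega)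
  suffices key : ∀ (L₂ L₁ : List R), (∀ x ∈ L₁ ++ L₂, x ∈ maximalIdeal R) →
      maximalIdeal R ≤ (Ideal.ofList (L₁ ++ L₂)).radical → ∀ (M : Type u) [AddCommGroup M] [Module R M]
      [Module.Finite R M], (∀ r ∈ Ideal.ofList L₁, ∀ m : M, r • m = 0) → DepthGE (ModuleCat.of R M) L₂.length →
      IsWeaklyRegular M L₂ by
    exact key L [] (by simpa using hmem) (by simpa using hrad) R
      (fun r hr m => by simp [show r = 0 by simpa using hr]) (by rw [hlen]; exact hdepth)
  intro L₂
  induction L₂ with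
  | nil => intro _ _ _ M _ _ _ _ _; exact IsWeaklyRegular.nil R M
  | cons b L₂ ih =>
    intro L₁ hmem hrad M _ _ _ hann hd
    have hb : b ∈ maximalIdeal R := hmem b (by simp)
    have hbreg : IsSMulRegular M b := by
      intro u v huv
      by_contra hne
      have hbz : b • (u - v) = 0 := by rw [smul_sub]; exact sub_eq_zero.2 huv
      have hmem' : b ∈ ⋃ p ∈ associatedPrimes R M, (p : Set R) := by
        rw [biUnion_associatedPrimes_eq_zero_divisors R M]
        exact ⟨u - v, sub_ne_zero.2 hne, hbz⟩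
      obtain ⟨p, hp, hbp⟩ := Set.mem_iUnion₂.1 hmem'
      have hle : Ideal.ofList (L₁ ++ b :: L₂) ≤ p ⊔ Ideal.span ((L₂.toFinset : Finset R) : Set R) := by
        rw [Ideal.ofList, Ideal.span_le]
        intro t ht
        simp only [Set.mem_ofPred_eq, List.mem_append, List.mem_cons] at ht
        rcases ht with ht | rfl | ht
        · obtain ⟨-, z, hz⟩ := isAssociatedPrime_iff.1 hp
          refine Ideal.mem_sup_left ?_
          rw [hz, Submodule.mem_colon_singleton, Submodule.mem_bot]
          exact hann t (Ideal.subset_span ht) z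
        · exact Ideal.mem_sup_left hbp
        · exact Ideal.mem_sup_right (Ideal.subset_span (by simpa using ht))
      have h1 := le_coheight (b :: L₂).length M hd ⟨p, hp.isPrime⟩ hp
      have h2 := coheight_le_card ⟨p, hp.isPrime⟩ L₂.toFinset (hrad.trans (Ideal.radical_mono hle))
        (fun x hx => hmem x (by simp at hx; simp [hx]))
      have h3 := h1.trans h2
      have h4 := List.toFinset_card_le L₂
      simp only [List.length_cons, Nat.cast_le] at h3
      omega
    rw [isWeaklyRegular_cons_iff]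
    refine ⟨hbreg, ih (L₁ ++ [b]) (by simpa using hmem) (by simpa using hrad) (QuotSMulTop b M) ?_
      (depthGE_quot hb hbreg hd)⟩
    intro r hr w
    obtain ⟨m, rfl⟩ := Submodule.Quotient.mk_surjective _ w
    rw [Ideal.ofList_append, Ideal.ofList_singleton] at hr
    obtain ⟨r₁, hr₁, r₂, hr₂, rfl⟩ := Submodule.mem_sup.1 hr
    obtain ⟨c, rfl⟩ := Ideal.mem_span_singleton.1 hr₂
    rw [← Submodule.Quotient.mk_smul, Submodule.Quotient.mk_eq_zero, add_smul, hann r₁ hr₁ m, zero_add, mul_smul]
    exact Submodule.smul_mem_pointwise_smul _ _ _ trivial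

end

end Groth.Agent.CMLocal.SOP
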