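import Groth.Agent.CMLocal.SOP
import Groth.Prelude.Def_W4bk5brsh16IT
import Mathlib.Algebra.CharP.Lemmas
import Mathlib.Algebra.CharP.Frobenius

/-! Tight closure of systems of parameters in Cohen-Macaulay local rings. -/

set_option autoImplicit false
universe u

open IsLocalRing

namespace Groth.Agent.CMLocal.TightClosure

noncomputable section

variable {R : Type u} [CommRing R] [LocCoh.IsCohenMacaulayLocalRing R] {n : ℕ}

/-- system of parameters (as many elements as the dimension) -/
def IsSOP (b : Fin n → R) : Prop :=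
  (∀ j, b j ∈ maximalIdeal R) ∧ maximalIdeal R ≤ (Ideal.span (Set.range b)).radical

lemma isSOP_of_radical {b : Fin n → R} (h : (Ideal.span (Set.range b)).radical = maximalIdeal R) : IsSOP b :=
  ⟨fun j => h ▸ Ideal.le_radical (Ideal.subset_span ⟨j, rfl⟩), h.ge⟩

lemma IsSOP.of_pow_mem {b b' : Fin n → R} (hb : IsSOP b) (hm : ∀ j, b' j ∈ maximalIdeal R)
    (h : ∀ j, ∃ N : ℕ, b j ^ N ∈ Ideal.span (Set.range b')) : IsSOP b' := by
  refine ⟨hm, hb.2.trans (Ideal.radical_le_radical_iff.2 (Ideal.span_le.2 ?_))⟩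
  rintro _ ⟨j, rfl⟩
  exact h j

lemma IsSOP.pow {b : Fin n → R} (hb : IsSOP b) (t : Fin n → ℕ) (ht : ∀ j, 0 < t j) : IsSOP (fun j => b j ^ t j) :=
  hb.of_pow_mem (fun j => Ideal.pow_mem_of_mem _ (hb.1 j) _ (ht j))
    (fun j => ⟨t j, Ideal.subset_span ⟨j, rfl⟩⟩)

/-- the ideal of all but one element -/
def others (b : Fin n → R) (i : Fin n) : Ideal R := Ideal.span (b '' {j | j ≠ i})

lemma span_eq (b : Fin n → R) (i : Fin n) : Ideal.span (Set.range b) = others b i ⊔ Ideal.span {b i} := by
  rw [others, ← Ideal.span_union]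
  congr 1
  ext x
  constructor
  · rintro ⟨j, rfl⟩
    by_cases h : j = i
    · exact Or.inr (by rw [h]; rfl)
    · exact Or.inl ⟨j, h, rfl⟩
  · rintro (⟨j, -, rfl⟩ | h)
    · exact ⟨j, rfl⟩
    · exact ⟨i, (Set.mem_singleton_iff.1 h).symm⟩

lemma others_update (b : Fin n → R) (i : Fin n) (x : R) : others (Function.update b i x) i = others b i := by
  simp only [others]
  congr 1
  exact Set.image_congr fun j hj => Function.update_of_ne hj _ _

lemma others_le_maximal {b : Fin n → R} (hb : IsSOP b) (i : Fin n) : others b i ≤ maximalIdeal R :=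
  Ideal.span_le.2 (by rintro _ ⟨j, -, rfl⟩; exact hb.1 j)

/-- each element is regular modulo the others -/
lemma regular_others (hdim : ringKrullDim R = n) {b : Fin n → R} (hb : IsSOP b) (i : Fin n) {y : R}
    (hy : b i * y ∈ others b i) : y ∈ others b i := by
  classical
  set L := (Finset.univ.erase i).toList.map b with hL
  have hset : {x | x ∈ L} = b '' {j | j ≠ i} := by ext x; simp [hL]
  have h := SOP.sop_isWeaklyRegular n hdim (L ++ [b i]) (by simp [hL]; have := i.2; omega) ?_ ?_
  · obtain ⟨-, h2⟩ := (RingTheory.Sequence.isWeaklyRegular_append_iff R L [b i]).1 h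
    rw [RingTheory.Sequence.isWeaklyRegular_singleton_iff, isSMulRegular_quotient_iff_mem_of_smul_mem] at h2
    have e : (Ideal.ofList L • ⊤ : Submodule R R) = others b i := by
      rw [smul_eq_mul, Ideal.mul_top, others, Ideal.ofList, hset]
    rw [e] at h2
    exact h2 y hy
  · intro x hx
    simp [hL] at hx
    rcases hx with ⟨j, -, rfl⟩ | rfl
    · exact hb.1 j
    · exact hb.1 i
  · refine hb.2.trans (Ideal.radical_mono (Ideal.span_le.2 ?_))
    rintro _ ⟨j, rfl⟩
    refine Ideal.subset_span ?_
    simp only [Set.mem_ofPred_eq, List.mem_append, List.mem_singleton]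
    by_cases hji : j = i
    · exact Or.inr (by rw [hji])
    · exact Or.inl (by simp [hL]; exact ⟨j, hji, rfl⟩)

variable (p : ℕ) [Fact p.Prime] [CharP R p]

omit [LocCoh.IsCohenMacaulayLocalRing R] in
lemma frobPow_eq (I : Ideal R) (e : ℕ) : LocCoh.frobPow I (p ^ e) = I.map (iterateFrobenius R p e) := by
  refine le_antisymm (Ideal.span_le.2 ?_) (Ideal.map_le_iff_le_comap.2 fun x hx => Ideal.subset_span ⟨x, hx, rfl⟩)
  rintro _ ⟨y, hy, rfl⟩
  exact Ideal.mem_map_of_mem _ hy

omit [LocCoh.IsCohenMacaulayLocalRing R] in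
lemma tc_mono {I J : Ideal R} (h : I ≤ J) : LocCoh.tightClosure p I ⊆ LocCoh.tightClosure p J := by
  rintro x ⟨c, hc, e₀, hx⟩
  refine ⟨c, hc, e₀, fun e he => Ideal.span_mono ?_ (hx e he)⟩
  rintro _ ⟨y, hy, rfl⟩
  exact ⟨y, h hy, rfl⟩

omit [LocCoh.IsCohenMacaulayLocalRing R] in
lemma frob_mem_iff (J : Ideal R) (v : R) (e : ℕ) (z : R) :
    z ∈ LocCoh.frobPow (J ⊔ Ideal.span {v}) (p ^ e) ↔
      ∃ r, z - r * v ^ (p ^ e) ∈ J.map (iterateFrobenius R p e) := by
  rw [frobPow_eq, Ideal.map_sup, Ideal.map_span, Set.image_singleton, Submodule.mem_sup]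
  constructor
  · rintro ⟨j, hj, w, hw, rfl⟩
    obtain ⟨r, rfl⟩ := Ideal.mem_span_singleton'.1 hw
    exact ⟨r, by rw [iterateFrobenius_def, add_sub_cancel_right]; exact hj⟩
  · rintro ⟨r, hr⟩
    exact ⟨_, hr, _, Ideal.mem_span_singleton'.2 ⟨r, rfl⟩, by rw [iterateFrobenius_def, sub_add_cancel]⟩

omit [LocCoh.IsCohenMacaulayLocalRing R] in
lemma map_others (b : Fin n → R) (i : Fin n) (e : ℕ) :
    (others b i).map (iterateFrobenius R p e) = others (fun j => b j ^ (p ^ e)) i := by
  rw [others, others, Ideal.map_span, Set.image_image]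
  rfl

/-- raising one exponent -/
lemma tc_pow_succ (hdim : ringKrullDim R = n) {b : Fin n → R} (hb : IsSOP b) (i : Fin n) {t : ℕ} (ht : 0 < t)
    (h1 : LocCoh.IsTightlyClosed p (others b i ⊔ Ideal.span {b i}))
    (h2 : LocCoh.IsTightlyClosed p (others b i ⊔ Ideal.span {b i ^ t})) :
    LocCoh.IsTightlyClosed p (others b i ⊔ Ideal.span {b i ^ (t + 1)}) := by
  classical
  intro x hx
  have hx2 : x ∈ others b i ⊔ Ideal.span {b i ^ t} := h2 (tc_mono p (sup_le_sup_left
    (Ideal.span_singleton_le_span_singleton.2 (pow_dvd_pow _ (Nat.le_succ t))) _) hx)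
  obtain ⟨j, hj, w, hw, rfl⟩ := Submodule.mem_sup.1 hx2
  obtain ⟨a, rfl⟩ := Ideal.mem_span_singleton'.1 hw
  obtain ⟨c, hc, e₀, hx⟩ := hx
  have ha : a ∈ others b i ⊔ Ideal.span {b i} := h1 ⟨c, hc, e₀, fun e he => by
    obtain ⟨r, hr⟩ := (frob_mem_iff p _ _ e _).1 (hx e he)
    refine (frob_mem_iff p _ _ e _).2 ⟨r, ?_⟩
    have hjq : j ^ (p ^ e) ∈ (others b i).map (iterateFrobenius R p e) :=
      Ideal.mem_map_of_mem (iterateFrobenius R p e) hj
    set m := t * p ^ e
    have hm : 0 < m := Nat.mul_pos ht (pow_pos (Fact.out (p := p.Prime)).pos e)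
    let b' : Fin n → R := Function.update (fun k => b k ^ (p ^ e)) i (b i ^ m)
    have hb' : IsSOP b' := by
      convert hb.pow (Function.update (fun _ => p ^ e) i m) (fun k => ?_) using 1
      · funext k
        by_cases hk : k = i
        · subst hk; simp [b']
        · simp [b', hk]
      · by_cases hk : k = i
        · subst hk; simpa using hm
        · simpa [hk] using pow_pos (Fact.out (p := p.Prime)).pos e
    have key : b i ^ m * (c * a ^ (p ^ e) - r * b i ^ (p ^ e)) ∈ (others b i).map (iterateFrobenius R p e) := by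
      have := Ideal.sub_mem _ hr (Ideal.mul_mem_left _ c hjq)
      convert this using 1
      rw [add_pow_char_pow, mul_pow]
      simp only [m, ← pow_mul, add_mul, one_mul, pow_add]
      ring
    have h3 := regular_others hdim hb' i (y := c * a ^ (p ^ e) - r * b i ^ (p ^ e))
    simp only [b', others_update, Function.update_self] at h3
    rw [← map_others] at h3
    exact h3 key⟩
  obtain ⟨j', hj', w', hw', rfl⟩ := Submodule.mem_sup.1 ha
  obtain ⟨a', rfl⟩ := Ideal.mem_span_singleton'.1 hw'
  refine Submodule.mem_sup.2 ⟨j + j' * b i ^ t, Ideal.add_mem _ hj (Ideal.mul_mem_right _ _ hj'),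
    a' * b i ^ (t + 1), Ideal.mem_span_singleton'.2 ⟨a', rfl⟩, by rw [pow_succ]; ring⟩

/-- all powers of a tightly closed system of parameters are tightly closed -/
theorem tc_pow (hdim : ringKrullDim R = n) {a : Fin n → R} (ha : IsSOP a)
    (h : LocCoh.IsTightlyClosed p (Ideal.span (Set.range a))) :
    ∀ t : Fin n → ℕ, (∀ j, 0 < t j) → LocCoh.IsTightlyClosed p (Ideal.span (Set.range fun j => a j ^ t j)) := by
  classical
  intro t
  induction hN : ∑ j, t j using Nat.strong_induction_on generalizing t with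
  | _ N ih =>
    intro ht
    by_cases h1 : ∀ j, t j = 1
    · simpa [h1] using h
    · push Not at h1
      obtain ⟨i, hi⟩ := h1
      obtain ⟨s, hs⟩ : ∃ s, t i = s + 1 := ⟨t i - 1, by have := ht i; omega⟩
      have hs0 : 0 < s := by omega
      let b : Fin n → R := Function.update (fun j => a j ^ t j) i (a i)
      have hb : IsSOP b := by
        convert ha.pow (Function.update t i 1) (fun k => ?_) using 1
        · funext k
          by_cases hk : k = i
          · subst hk; simp [b]
          · simp [b, hk]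
        · by_cases hk : k = i
          · subst hk; simp
          · simpa [hk] using ht k
      have key : ∀ m, 0 < m → Ideal.span (Set.range fun j => a j ^ Function.update t i m j)
          = others b i ⊔ Ideal.span {b i ^ m} := by
        intro m hm
        rw [span_eq _ i, others_update]
        congr 1
        · simp only [others]
          congr 1
          exact Set.image_congr fun j hj => by simp [Function.update_of_ne hj]
        · simp [b]
      have hlt : ∀ m, m < t i → ∑ j, Function.update t i m j < N := fun m hm => by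
        rw [← hN]
        refine Finset.sum_lt_sum (fun j _ => ?_) ⟨i, Finset.mem_univ i, by simpa using hm⟩
        by_cases hk : j = i
        · subst hk; simpa using hm.le
        · simp [hk]
      have hpos : ∀ m, 0 < m → ∀ j, 0 < Function.update t i m j := fun m hm j => by
        by_cases hk : j = i
        · subst hk; simpa using hm
        · simpa [hk] using ht j
      have e1 := key 1 one_pos
      have e2 := key s hs0
      have e3 := key (s + 1) (Nat.succ_pos s)
      rw [pow_one] at e1
      rw [← hs, Function.update_eq_self] at e3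
      have H1 := ih _ (hlt 1 (by omega)) _ rfl (hpos 1 one_pos)
      have H2 := ih _ (hlt s (by omega)) _ rfl (hpos s hs0)
      rw [e1] at H1
      rw [e2] at H2
      rw [e3, hs]
      exact tc_pow_succ p hdim hb i hs0 H1 H2

omit [LocCoh.IsCohenMacaulayLocalRing R] in
/-- prime avoidance in a coset -/
lemma exists_add_notMem (x : R) (K : Ideal R) (s : Finset (Ideal R)) (hs : ∀ q ∈ s, q.IsPrime)
    (h : ∀ q ∈ s, ¬ (x ∈ q ∧ K ≤ q)) : ∃ y ∈ K, ∀ q ∈ s, x + y ∉ q := by
  classical
  induction s using Finset.strongInduction with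
  | H s ih =>
    rcases s.eq_empty_or_nonempty with rfl | hne
    · exact ⟨0, zero_mem _, by simp⟩
    obtain ⟨p, hp, hmin⟩ := Finset.exists_minimal hne
    obtain ⟨y, hy, hy'⟩ := ih (s.erase p) (Finset.erase_ssubset hp) (fun q hq => hs q (Finset.mem_of_mem_erase hq))
      (fun q hq => h q (Finset.mem_of_mem_erase hq))
    by_cases hxy : x + y ∈ p
    swap
    · exact ⟨y, hy, fun q hq => if hqp : q = p then hqp ▸ hxy else hy' q (Finset.mem_erase.2 ⟨hqp, hq⟩)⟩
    have hprime := hs p hp
    have hK : ¬ K ≤ p := fun hle => h p hp ⟨by simpa using p.sub_mem hxy (hle hy), hle⟩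
    have hprod : ¬ K ⊓ (s.erase p).inf id ≤ p := fun hle => by
      rcases (hprime.inf_le).1 hle with h1 | h1
      · exact hK h1
      · obtain ⟨q, hq, hqp⟩ := (hprime.inf_le').1 h1
        exact Finset.ne_of_mem_erase hq (le_antisymm hqp (hmin (Finset.mem_of_mem_erase hq) hqp))
    obtain ⟨z, hz, hzp⟩ := Set.not_subset.1 hprod
    refine ⟨y + z, K.add_mem hy hz.1, fun q hq hmem => ?_⟩
    by_cases hqp : q = p
    · subst hqp
      exact hzp (by simpa using q.sub_mem hmem hxy)
    · have hzq : z ∈ q := (Finset.inf_le (f := id) (Finset.mem_erase.2 ⟨hqp, hq⟩)) hz.2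
      exact hy' q (Finset.mem_erase.2 ⟨hqp, hq⟩) (by simpa [← add_assoc] using q.sub_mem hmem hzq)

/-- the first `i` members of `e`, then powers of `a` -/
def mix (a e : Fin n → R) (i : ℕ) (t : Fin n → ℕ) : Fin n → R := fun j => if (j : ℕ) < i then e j else a j ^ t j

lemma exists_mix (hdim : ringKrullDim R = n) {a b : Fin n → R} (ha : IsSOP a) (hb : IsSOP b)
    (h : LocCoh.IsTightlyClosed p (Ideal.span (Set.range a))) :
    ∀ i, i ≤ n → ∃ e : Fin n → R, Ideal.span (Set.range e) = Ideal.span (Set.range b) ∧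
      ∀ t : Fin n → ℕ, (∀ j, 0 < t j) → IsSOP (mix a e i t) ∧
        LocCoh.IsTightlyClosed p (Ideal.span (Set.range (mix a e i t))) := by
  classical
  intro i
  induction i with
  | zero =>
    intro _
    refine ⟨b, rfl, fun t ht => ?_⟩
    have : mix a b 0 t = fun j => a j ^ t j := funext fun j => if_neg (Nat.not_lt_zero _)
    rw [this]
    exact ⟨ha.pow t ht, tc_pow p hdim ha h t ht⟩
  | succ i ih =>
    intro hi
    obtain ⟨e, he, hmix⟩ := ih (by omega)
    set k : Fin n := ⟨i, by omega⟩ with hk
    set one : Fin n → ℕ := fun _ => 1 with hone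
    obtain ⟨hsop, -⟩ := hmix one (fun _ => one_pos)
    set J := others (mix a e i one) k with hJ
    have hak : mix a e i one k = a k := by simp [mix, hk, hone]
    let K : Ideal R := Ideal.span (e '' {j | i < (j : ℕ)})
    have hfin := J.finite_minimalPrimes_of_isNoetherianRing
    have hnot : ∀ q ∈ hfin.toFinset, ¬ (e k ∈ q ∧ K ≤ q) := by
      rintro q hq ⟨h1, h2⟩
      rw [Set.Finite.mem_toFinset] at hq
      haveI := hq.1.1
      have hle : maximalIdeal R ≤ q := hb.2.trans ((hq.1.1.radical_le_iff).2 (by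
        rw [← he, Ideal.span_le]
        rintro _ ⟨j, rfl⟩
        rcases lt_trichotomy (j : ℕ) i with hj | hj | hj
        · refine hq.1.2 (Ideal.subset_span ⟨j, fun hjk => ?_, by simp [mix, hj]⟩)
          rw [hjk] at hj; exact lt_irrefl _ hj
        · rw [show j = k from Fin.ext hj]; exact h1
        · exact h2 (Ideal.subset_span ⟨j, hj, rfl⟩)))
      have hrad : mix a e i one k ∈ J.radical := by
        rw [← J.sInf_minimalPrimes, Ideal.mem_sInf]
        intro q' hq'
        by_contra hcon
        haveI := hq'.1.1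
        have hq'm : q' ≤ maximalIdeal R := IsLocalRing.le_maximalIdeal hq'.1.1.ne_top
        have : q ≤ q' := hq.2 hq'.1 (hq'm.trans hle)
        exact hcon (this (hle (hsop.1 k)))
      obtain ⟨m, hm⟩ := hrad
      have h1' : (1 : R) ∈ J := by
        induction m with
        | zero => simpa using hm
        | succ m ihm => exact ihm (regular_others hdim hsop k (by rwa [pow_succ'] at hm))
      exact (maximalIdeal.isMaximal R).ne_top ((Ideal.eq_top_iff_one _).2 (others_le_maximal hsop k h1'))
    obtain ⟨y, hy, hy'⟩ := exists_add_notMem (e k) K hfin.toFinset (fun q hq => (hfin.mem_toFinset.1 hq).1.1) hnot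
    set v := e k + y with hv
    let e' : Fin n → R := Function.update e k v
    have hK : ∀ j : Fin n, i < (j : ℕ) → e' j = e j := fun j hj => by
      simp only [e']; rw [Function.update_of_ne]; intro hjk; rw [hjk] at hj; exact lt_irrefl _ hj
    have he' : Ideal.span (Set.range e') = Ideal.span (Set.range e) := by
      refine le_antisymm (Ideal.span_le.2 ?_) (Ideal.span_le.2 ?_)
      · rintro _ ⟨j, rfl⟩
        by_cases hj : j = k
        · subst hj
          simp only [e', Function.update_self]
          exact Ideal.add_mem _ (Ideal.subset_span ⟨k, rfl⟩) (Ideal.span_mono (Set.image_subset_range _ _) hy)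
        · simp only [e', Function.update_of_ne hj]
          exact Ideal.subset_span ⟨j, rfl⟩
      · rintro _ ⟨j, rfl⟩
        by_cases hj : j = k
        · subst hj
          have hy2 : y ∈ Ideal.span (Set.range e') := (Ideal.span_le.2 (by
            rintro _ ⟨l, hl, rfl⟩
            rw [← hK l hl]
            exact Ideal.subset_span ⟨l, rfl⟩) : K ≤ _) hy
          have hv2 : v ∈ Ideal.span (Set.range e') := Ideal.subset_span ⟨k, by simp [e']⟩
          simpa [hv] using Ideal.sub_mem _ hv2 hy2
        · exact Ideal.subset_span ⟨j, by simp [e', hj]⟩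
    refine ⟨e', he'.trans he, ?_⟩
    have hvm : v ∈ maximalIdeal R := by
      have h1 : v ∈ Ideal.span (Set.range e') := Ideal.subset_span ⟨k, by simp [e']⟩
      rw [he', he] at h1
      exact (Ideal.span_le.2 (by rintro _ ⟨j, rfl⟩; exact hb.1 j) : Ideal.span (Set.range b) ≤ maximalIdeal R) h1
    have hmix' : ∀ t : Fin n → ℕ, mix a e' (i + 1) t = Function.update (mix a e i t) k v := by
      intro t
      funext j
      by_cases hj : j = k
      · subst hj; simp [mix, e', hk]
      · have : (j : ℕ) ≠ i := fun h => hj (Fin.ext h)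
        simp only [mix, e', Function.update_of_ne hj]
        split_ifs <;> first | rfl | omega
    have hmax : maximalIdeal R ≤ (J ⊔ Ideal.span {v}).radical := by
      rw [Ideal.radical_eq_sInf]
      refine le_sInf fun P ⟨hP, hPp⟩ => ?_
      haveI := hPp
      have hJP : J ≤ P := le_sup_left.trans hP
      obtain ⟨q, hq, hqP⟩ := Ideal.exists_minimalPrimes_le hJP
      have hvP : v ∈ P := hP (Ideal.mem_sup_right (Ideal.mem_span_singleton_self v))
      have hlt : q < P := lt_of_le_of_ne hqP fun heq => hy' q (hfin.mem_toFinset.2 hq) (heq ▸ hvP)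
      haveI := hq.1.1
      by_contra hne
      have hPm : P < maximalIdeal R := lt_of_le_of_ne (IsLocalRing.le_maximalIdeal hPp.ne_top) (fun h => hne h.ge)
      have hco : Order.coheight (⟨q, hq.1.1⟩ : PrimeSpectrum R) ≤ 1 := by
        refine (SOP.coheight_le_card ⟨q, hq.1.1⟩ {a k} (hsop.2.trans (Ideal.radical_mono ?_))
          (fun x hx => by rw [Finset.mem_singleton.1 hx]; exact ha.1 k)).trans (by simp)
        rw [span_eq _ k, hak, Finset.coe_singleton]
        exact sup_le_sup_right hq.1.2 _
      have h1 : (⟨q, hq.1.1⟩ : PrimeSpectrum R) < ⟨P, hPp⟩ := (PrimeSpectrum.asIdeal_lt_asIdeal _ _).1 hlt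
      have h2 : (⟨P, hPp⟩ : PrimeSpectrum R) < ⟨maximalIdeal R, inferInstance⟩ := (PrimeSpectrum.asIdeal_lt_asIdeal _ _).1 hPm
      have h3 := Order.coheight_add_one_le h1
      have h4 := Order.coheight_add_one_le h2
      have h5 : (1 : ℕ∞) + 1 ≤ 1 := le_trans (add_le_add_left (le_trans le_add_self h4) 1) (h3.trans hco)
      norm_num at h5
    intro t ht
    obtain ⟨hsopt, -⟩ := hmix t ht
    rw [hmix']
    set J' := others (mix a e i t) k with hJ'
    have hJJ' : J ≤ J'.radical := by
      rw [hJ, others, Ideal.span_le]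
      rintro _ ⟨j, hj, rfl⟩
      simp only [mix, hone]
      split_ifs with hji
      · exact Ideal.le_radical (Ideal.subset_span ⟨j, hj, by simp [mix, hji]⟩)
      · exact ⟨t j, by rw [pow_one]; exact Ideal.subset_span ⟨j, hj, by simp [mix, hji]⟩⟩
    have hmax' : maximalIdeal R ≤ (J' ⊔ Ideal.span {v}).radical := hmax.trans (Ideal.radical_le_radical_iff.2
      (sup_le (hJJ'.trans (Ideal.radical_mono le_sup_left)) (le_sup_right.trans Ideal.le_radical)))
    have hsop' : IsSOP (Function.update (mix a e i t) k v) := by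
      refine ⟨fun j => ?_, ?_⟩
      · by_cases hj : j = k
        · subst hj; simpa using hvm
        · simpa [hj] using hsopt.1 j
      · rw [span_eq _ k, others_update, Function.update_self]; exact hmax'
    refine ⟨hsop', ?_⟩
    obtain ⟨s, hs⟩ := hmax' (ha.1 k)
    have hs' : a k ^ (s + 1) ∈ J' ⊔ Ideal.span {v} := by rw [pow_succ]; exact Ideal.mul_mem_right _ _ hs
    obtain ⟨hsops, hTC⟩ := hmix (Function.update t k (s + 1)) (fun j => by
      by_cases hj : j = k
      · subst hj; simp
      · simpa [hj] using ht j)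
    have hmixk : mix a e i (Function.update t k (s + 1)) k = a k ^ (s + 1) := by simp [mix, hk]
    have hoth : others (mix a e i (Function.update t k (s + 1))) k = J' := by
      simp only [hJ', others]
      congr 1
      exact Set.image_congr fun j (hj : j ≠ k) => by simp [mix, Function.update_of_ne hj]
    rw [span_eq _ k, hmixk, hoth] at hTC
    rw [span_eq _ k, others_update, Function.update_self]
    obtain ⟨j, hj, w', hw', hsum⟩ := Submodule.mem_sup.1 hs'
    obtain ⟨w, rfl⟩ := Ideal.mem_span_singleton'.1 hw'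
    intro x ⟨c, hc, e₀, hx⟩
    have hwx : w * x ∈ J' ⊔ Ideal.span {a k ^ (s + 1)} := hTC ⟨c, hc, e₀, fun ee hee => by
      obtain ⟨r, hr⟩ := (frob_mem_iff p _ _ ee _).1 (hx ee hee)
      refine (frob_mem_iff p _ _ ee _).2 ⟨r, ?_⟩
      have hjq : j ^ (p ^ ee) ∈ J'.map (iterateFrobenius R p ee) := Ideal.mem_map_of_mem (iterateFrobenius R p ee) hj
      have := Ideal.sub_mem _ (Ideal.mul_mem_left _ (w ^ (p ^ ee)) hr) (Ideal.mul_mem_left _ r hjq)
      convert this using 1
      rw [← hsum, add_pow_char_pow, mul_pow, mul_pow]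
      ring⟩
    obtain ⟨j₁, hj₁, r', hr', hwx⟩ := Submodule.mem_sup.1 hwx
    obtain ⟨r, rfl⟩ := Ideal.mem_span_singleton'.1 hr'
    have hreg : a k ^ (s + 1) * (x - r * v) ∈ J' := by
      have h1 : w * (x - r * v) ∈ J' := by
        have := Ideal.add_mem _ hj₁ (Ideal.mul_mem_left _ r hj)
        convert this using 1
        linear_combination -hwx - r * hsum
      have := Ideal.add_mem _ (Ideal.mul_mem_left _ v h1) (Ideal.mul_mem_right (x - r * v) _ hj)
      convert this using 1
      linear_combination -(x - r * v) * hsum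
    have hfinal := regular_others hdim hsops k (y := x - r * v) (by rw [hmixk, hoth]; exact hreg)
    rw [hoth] at hfinal
    exact Submodule.mem_sup.2 ⟨_, hfinal, r * v, Ideal.mem_span_singleton'.2 ⟨r, rfl⟩, sub_add_cancel _ _⟩

theorem tc_sop (hdim : ringKrullDim R = n) {a b : Fin n → R} (ha : IsSOP a) (hb : IsSOP b)
    (h : LocCoh.IsTightlyClosed p (Ideal.span (Set.range a))) :
    LocCoh.IsTightlyClosed p (Ideal.span (Set.range b)) := by
  obtain ⟨e, he, hmix⟩ := exists_mix p hdim ha hb h n le_rfl
  have h2 := (hmix (fun _ => 1) fun _ => one_pos).2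
  rw [show mix a e n (fun _ => 1) = e from funext fun j => if_pos j.2, he] at h2
  exact h2

theorem tc_segment (hdim : ringKrullDim R = n) {a b : Fin n → R} (ha : IsSOP a) (hb : IsSOP b)
    (h : LocCoh.IsTightlyClosed p (Ideal.span (Set.range a))) (i : ℕ) :
    LocCoh.IsTightlyClosed p (Ideal.span (b '' {j : Fin n | (j : ℕ) < i})) := by
  set J := Ideal.span (b '' {j : Fin n | (j : ℕ) < i}) with hJ
  intro x hx
  have hbig : ∀ m : ℕ, Submodule.Quotient.mk x ∈ (maximalIdeal R ^ m • ⊤ : Submodule R (R ⧸ J)) := by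
    intro m
    let b' : Fin n → R := fun j => b j ^ (if (j : ℕ) < i then 1 else m + 1)
    have hb' : IsSOP b' := hb.pow _ (fun j => by split_ifs <;> omega)
    have hJle : J ≤ Ideal.span (Set.range b') := Ideal.span_le.2 (by
      rintro _ ⟨j, hj, rfl⟩
      refine Ideal.subset_span ⟨j, ?_⟩
      simp only [Set.mem_ofPred_eq] at hj
      simp [b', hj])
    have hxmem : x ∈ Ideal.span (Set.range b') := tc_sop p hdim ha hb' h (tc_mono p hJle hx)
    have hle : Ideal.span (Set.range b') ≤ J ⊔ maximalIdeal R ^ m := Ideal.span_le.2 (by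
      rintro _ ⟨j, rfl⟩
      simp only [b']
      split_ifs with hj
      · rw [pow_one]; exact Ideal.mem_sup_left (Ideal.subset_span ⟨j, hj, rfl⟩)
      · exact Ideal.mem_sup_right (Ideal.pow_le_pow_right (Nat.le_succ m) (Ideal.pow_mem_pow (hb.1 j) _)))
    obtain ⟨u, hu, w, hw, rfl⟩ := Submodule.mem_sup.1 (hle hxmem)
    rw [Submodule.Quotient.mk_add, (Submodule.Quotient.mk_eq_zero J).2 hu, zero_add,
      show (Submodule.Quotient.mk w : R ⧸ J) = w • Submodule.Quotient.mk 1 by rw [← Submodule.Quotient.mk_smul, smul_eq_mul, mul_one]]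
    exact Submodule.smul_mem_smul hw trivial
  have h0 : (Submodule.Quotient.mk x : R ⧸ J) ∈ (⨅ m : ℕ, maximalIdeal R ^ m • ⊤ : Submodule R (R ⧸ J)) :=
    (Submodule.mem_iInf _).2 hbig
  rw [Ideal.iInf_pow_smul_eq_bot_of_isLocalRing (M := R ⧸ J) (maximalIdeal R) (maximalIdeal.isMaximal R).ne_top, Submodule.mem_bot,
    Submodule.Quotient.mk_eq_zero] at h0
  exact h0

end

end Groth.Agent.CMLocal.TightClosure
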